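import Cfsg.Agent.SylowPrimePower.Rep
import Cfsg.Agent.Characters.Burnside
import Cfsg.Agent.S4343

/-!
# A simple group with a prime power number, less than `p²`, of Sylow `p`-subgroups

Then `p + 1` is a power of `2`.  A character `χ` of degree `e = |N(P)/C(P)|` is found in the
principal block; the decomposition of `χ χ̄` forces `p = 2 e + 1` and `(p + 1) / 2 ∣ |S|`.
-/

set_option autoImplicit false
set_option linter.unusedSectionVars false

namespace CfsgLib.SylowPrimePower

open Cfsg CfsgLib.Blocks CfsgLib.PrincipalBlock CfsgLib.BlocksCyclic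
open scoped ComplexConjugate

universe u

theorem eq_of_dvd_sub_of_lt {p : ℕ} {a b : ℤ} (ha : 0 ≤ a) (ha' : a < p) (hb : 0 ≤ b) (hb' : b < p)
    (h : (p : ℤ) ∣ a - b) : a = b :=
  sub_eq_zero.1 (Int.eq_zero_of_abs_lt_dvd h (abs_sub_lt_iff.2 ⟨by omega, by omega⟩))

/-- The degree of a constituent against its multiplicity of the eigenvalue `1`. -/
theorem degree_ineq {p e t n₀ R : ℕ} (hte : t * e + 1 = p) (ht : 2 ≤ t) (hn₀ : n₀ + 1 ≤ e)
    (hR : 1 ≤ R) {c : ℤ} (hc : c = 0 ∨ c = 1 ∨ c = -1 ∨ c = (e : ℤ) ∨ c = -(e : ℤ))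
    (hdvd : (p : ℤ) ∣ c - ((n₀ : ℤ) + e * R)) : n₀ * (p + 1) ≤ 2 * (n₀ + e * R) := by
  by_contra hcon
  rw [not_le] at hcon
  have h2 : 2 * R < n₀ * t := by
    by_contra hge
    rw [not_lt] at hge
    have := Nat.mul_le_mul_left e hge
    rw [← hte] at hcon
    nlinarith
  have hte' : (t : ℤ) * e + 1 = p := by exact_mod_cast hte
  have hn₀' : (n₀ : ℤ) + 1 ≤ e := by exact_mod_cast hn₀
  have h2' : 2 * (R : ℤ) < (n₀ : ℤ) * t := by exact_mod_cast h2
  have ht' : (2 : ℤ) ≤ t := by exact_mod_cast ht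
  have hR' : (1 : ℤ) ≤ R := by exact_mod_cast hR
  have htn : (t : ℤ) * n₀ + t ≤ p - 1 := by nlinarith
  have hz : (p : ℤ) ∣ (R : ℤ) - ((t : ℤ) * n₀ - t * c) := by
    have : (R : ℤ) - ((t : ℤ) * n₀ - t * c) = t * (c - ((n₀ : ℤ) + e * R)) + R * p := by
      rw [← hte']; ring
    rw [this]
    exact dvd_add (hdvd.mul_left _) (dvd_mul_left _ _)
  have key : ∀ a : ℤ, 0 ≤ a → a < p → (p : ℤ) ∣ (R : ℤ) - a → (R : ℤ) = a := fun a ha ha' h =>
    eq_of_dvd_sub_of_lt (by omega) (by nlinarith) ha ha' h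
  have hn₀0 : (1 : ℤ) ≤ n₀ := by
    rcases Nat.eq_zero_or_pos n₀ with h | h
    · subst h; simp at hcon
    · exact_mod_cast h
  rcases hc with rfl | rfl | rfl | rfl | rfl
  · have := key ((t : ℤ) * n₀) (by positivity) (by linarith) (by simpa using hz)
    nlinarith
  · have := key ((t : ℤ) * n₀ - t) (by nlinarith) (by linarith) (by simpa using hz)
    have hn1 : (n₀ : ℤ) = 1 := le_antisymm (by nlinarith) hn₀0
    rw [hn1] at this
    linarith
  · have := key ((t : ℤ) * n₀ + t) (by positivity) (by linarith) (by simpa using hz)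
    nlinarith
  · have := key ((t : ℤ) * n₀ + 1) (by positivity) (by linarith) (by
      have h' : (R : ℤ) - ((t : ℤ) * n₀ + 1) = ((R : ℤ) - ((t : ℤ) * n₀ - t * e)) - p := by
        rw [← hte']; ring
      rw [h']
      exact dvd_sub hz dvd_rfl)
    nlinarith
  · have := key ((t : ℤ) * n₀ - 1) (by nlinarith) (by linarith) (by
      have h' : (R : ℤ) - ((t : ℤ) * n₀ - 1) = ((R : ℤ) - ((t : ℤ) * n₀ - t * -(e : ℤ))) + p := by
        rw [← hte']; ring
      rw [h']
      exact dvd_add hz dvd_rfl)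
    nlinarith

variable {S : Type u} [Group S] [Fintype S] [IsSimpleGroup S]

theorem eq_one_of_apply_eq_degree {χ : IrrCharacter S} (hne : χ ≠ trivChar S) {y : S}
    (hy : (χ : S → ℂ) y = (χ : S → ℂ) 1) : y = 1 := by
  rcases IsSimpleGroup.eq_bot_or_eq_top_of_normal (charKer χ) inferInstance with h | h
  · exact Subgroup.mem_bot.1 (h ▸ mem_charKer.2 hy)
  · exact absurd (eq_trivChar_of_charKer_eq_top h) hne

set_option maxHeartbeats 1600000 in
open Classical in
/-- A nonabelian simple group with `q ^ j < p ^ 2` Sylow `p`-subgroups has `p + 1` a power of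
`2`. -/
theorem mersenne_of_simple (hS : ¬ IsMulCommutative S) (p : ℕ) [hpf : Fact p.Prime]
    (hpS : p ∣ Nat.card S) (hlt : Nat.card (Sylow p S) < p ^ 2) {q j : ℕ} (hq : q.Prime)
    (hj : Nat.card (Sylow p S) = q ^ j) : 3 < p ∧ ∃ k : ℕ, p + 1 = 2 ^ k := by
  have hp : p.Prime := hpf.out
  obtain ⟨P⟩ : Nonempty (Sylow p S) := Sylow.nonempty
  have hP : Nat.card (P : Subgroup S) = p := Cfsg.Agent.S4343.result hS p hpS hlt P
  obtain ⟨x, hxP, hx⟩ := exists_generator hP
  obtain ⟨θ, hθ, hθC⟩ := exists_theta hP hxP hx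
  obtain ⟨M, hM⟩ := Blocks.exists_isPModular p hp
  haveI : M.IsPrime := hM.2.1.isPrime
  set C := Subgroup.centralizer ({x} : Set S) with hCdef
  set e := Nat.card θ.range with he
  have hqcop : (q ^ j).Coprime p := by
    rw [← hj, Nat.coprime_comm, hp.coprime_iff_not_dvd]
    exact not_dvd_card_sylow p S
  have hCN : C ≤ Subgroup.normalizer ((P : Subgroup S) : Set S) := by
    rw [hCdef, centralizer_generator hP hxP hx]
    exact Subgroup.centralizer_le_normalizer _
  have hker : θ.ker = C.subgroupOf (Subgroup.normalizer ((P : Subgroup S) : Set S)) := by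
    ext n
    rw [MonoidHom.mem_ker, hθC, Subgroup.mem_subgroupOf, hCdef, centralizer_generator hP hxP hx]
  have hk : C.index = e * q ^ j := by
    rw [← Subgroup.relIndex_mul_index hCN, ← hj, P.card_eq_index_normalizer, he, ← Subgroup.index_ker,
      hker]
    rfl
  have he0 : 0 < e := Nat.card_pos
  have hep : e ∣ p - 1 := by
    have := Subgroup.card_subgroup_dvd_card θ.range
    rwa [Nat.card_eq_fintype_card (α := (ZMod p)ˣ), ZMod.card_units] at this
  have hep' : e < p := by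
    have := Nat.le_of_dvd (by have := hp.two_le; omega) hep
    omega
  have he1 : 1 < e := by
    by_contra h
    have h1 : e = 1 := by omega
    rw [h1, one_mul] at hk
    have := Fact.mk (CfsgLib.Characters.prime_card_of_primePow_class q j hq x hx hk)
    have := isCyclic_of_prime_card (α := S) rfl
    exact hS inferInstance
  -- the generators
  have hgen : ∀ m : ZMod p, m ≠ 0 → x ^ m.val ≠ 1 ∧ x ^ m.val ∈ (P : Subgroup S) ∧
      Subgroup.centralizer ({x ^ m.val} : Set S) = C := by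
    intro m hm
    have h1 : x ^ m.val ≠ 1 := fun h1 => hm (by
      rw [← pow_zero x, pow_val_eq_iff hP hxP hx, ZMod.natCast_zmod_val, Nat.cast_zero] at h1
      exact h1)
    have h2 := (P : Subgroup S).pow_mem hxP m.val
    exact ⟨h1, h2, (centralizer_generator hP h2 h1).trans (centralizer_generator hP hxP hx).symm⟩
  choose nn hnn using fun ψ : IrrCharacter S => exists_multiplicity hP hxP hx ψ
  have hdeg : ∀ ψ : IrrCharacter S, (ψ : S → ℂ) 1 = ((∑ i, nn ψ i : ℕ) : ℂ) := by
    intro ψ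
    rw [← sum_mult (f := fun m : ZMod p => (ψ : S → ℂ) (x ^ m.val)) (hnn ψ)]
    simp
  have hcharDeg : ∀ ψ : IrrCharacter S, Cfsg.charDegree (ψ : S → ℂ) = ∑ i, nn ψ i := fun ψ => by
    rw [Cfsg.charDegree, hdeg]
    exact Nat.floor_natCast _
  have hdvdS : ∀ ψ : IrrCharacter S, (∑ i, nn ψ i) ∣ Nat.card S := by
    intro ψ
    obtain ⟨r, ρ, hρ, hρψ⟩ := ψ.2
    haveI := hρ
    have h := CfsgLib.Characters.finrank_dvd_card ρ
    have h1 : ((∑ i, nn ψ i : ℕ) : ℂ) = (r : ℂ) := by
      rw [← hdeg, ← hρψ, Representation.char_one, Module.finrank_fin_fun]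
    rw [Nat.cast_injective h1]
    rwa [Module.finrank_fin_fun] at h
  have hinv : ∀ ψ : IrrCharacter S, ∀ h ∈ θ.range, ∀ k : ZMod p,
      nn ψ ((h : ZMod p) * k) = nn ψ k := by
    intro ψ h hh k
    refine invariant (f := fun m : ZMod p => (ψ : S → ℂ) (x ^ m.val)) (hnn ψ) (Units.ne_zero h)
      (fun m => ?_) k
    by_cases hm : m = 0
    · rw [hm, mul_zero]
    · exact (CfsgLib.Characters.classFunction_isConj (CfsgLib.Characters.isClassFunction_of_isIrr ψ.2)
        ((isConj_pow_iff hP hxP hx hθ hm).2 ⟨h, hh, rfl⟩)).symm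
  choose R hRsum hRle using fun ψ : IrrCharacter S => exists_orbit_sum θ.range (nn ψ) (hinv ψ)
  rw [← he] at hRsum
  have hRpos : ∀ ψ : IrrCharacter S, ψ ≠ trivChar S → 1 ≤ R ψ := by
    intro ψ hψ
    by_contra hR
    have h0 : ∀ i : ZMod p, i ≠ 0 → nn ψ i = 0 := fun i hi => by
      have := hRle ψ i hi
      omega
    have hx1 := hnn ψ 1
    rw [Finset.sum_eq_single 0 (fun i _ hi => by rw [h0 i hi]; simp) (by simp), zero_mul,
      AddChar.map_zero_eq_one, mul_one, ZMod.val_one, pow_one] at hx1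
    refine hx (eq_one_of_apply_eq_degree hψ ?_)
    rw [hx1, hdeg, Finset.sum_eq_single 0 (fun i _ hi => h0 i hi) (by simp)]
  have hblock := (principalBlock_structure hM P hP hxP hx hθ hθC).2
  -- a character of degree prime to `q` in the principal block
  obtain ⟨χ, hχB, hχne, hχq, hχx⟩ : ∃ χ ∈ Cfsg.principalBlock M S, χ ≠ trivChar S ∧
      ¬ q ∣ (∑ i, nn χ i) ∧ (χ : S → ℂ) x ≠ 0 := by
    by_contra hcon
    push Not at hcon
    have hsum := sum_principal_mul_conj hP hxP hx hM (P : Subgroup S).one_mem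
    rw [if_neg (fun h => hx (isConj_one_left.1 h)),
      ← Finset.add_sum_erase _ _ (Finset.mem_univ (trivChar S)), if_pos trivChar_mem] at hsum
    simp only [trivChar_apply, map_one, mul_one] at hsum
    have hint : IsIntegral ℤ ((1 : ℕ) / (q : ℕ) : ℂ) := by
      rw [Nat.cast_one, eq_neg_of_add_eq_zero_left hsum, neg_div, Finset.sum_div]
      refine IsIntegral.neg (IsIntegral.sum _ fun ψ hψ => ?_)
      split_ifs with hB
      · by_cases hq' : q ∣ ∑ i, nn ψ i
        · obtain ⟨a, ha⟩ := hq'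
          rw [hdeg ψ, ha, Complex.conj_natCast, Nat.cast_mul, ← mul_assoc, mul_div_right_comm,
            mul_div_assoc, div_self (Nat.cast_ne_zero.2 hq.ne_zero), mul_one]
          exact ((CfsgLib.Characters.character_isIntegral
            (CfsgLib.Characters.isCharacter_of_isIrr ψ.2) x)).mul (isIntegral_natCast _)
        · rw [hcon ψ hB (Finset.mem_erase.1 hψ).1 hq']
          simp [isIntegral_zero]
      · simp [isIntegral_zero]
    exact hq.one_lt.ne' (Nat.dvd_one.1 (CfsgLib.Characters.dvd_of_isIntegral_div hq.ne_zero hint))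
  obtain ⟨r, ρ, hρ, hρχ⟩ := χ.2
  haveI := hρ
  set d := ∑ i, nn χ i with hd
  have hrd : r = d := by
    have h1 : ((d : ℕ) : ℂ) = (r : ℂ) := by
      rw [← hdeg, ← hρχ, Representation.char_one, Module.finrank_fin_fun]
    exact (Nat.cast_injective h1).symm
  have hfin : Module.finrank ℂ (Fin r → ℂ) = d := by rw [Module.finrank_fin_fun, hrd]
  have hd0 : 0 < d := Nat.pos_of_ne_zero fun h =>
    CfsgLib.Characters.irr_one_ne_zero χ.2 (by rw [hdeg, ← hd, h, Nat.cast_zero])
  have hdp : ¬ p ∣ d := by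
    intro h
    have hpint : (p : ℤ) ∣ (d : ℤ) := Int.natCast_dvd_natCast.2 h
    have hsmall : ∀ a : ℕ, 0 < a → a < p → ¬ (p : ℤ) ∣ (a : ℤ) := fun a ha hap hdvd =>
      absurd (Nat.le_of_dvd ha (Int.natCast_dvd_natCast.1 hdvd)) (by omega)
    rcases hblock χ hχB with h1 | h1 | h1 | h1 <;>
      rw [hcharDeg, ← hd, Int.modEq_iff_dvd] at h1 <;>
      have h2 := dvd_add h1 hpint <;>
      simp only [sub_add_cancel, ← he, dvd_neg] at h2
    · exact hsmall 1 Nat.one_pos hp.one_lt (by exact_mod_cast h2)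
    · exact hsmall 1 Nat.one_pos hp.one_lt (by exact_mod_cast h2)
    · exact hsmall e he0 hep' h2
    · exact hsmall e he0 hep' h2
  -- all values on `P` are divisible by `d / gcd (d, e)`
  set g := Nat.gcd d C.index with hg
  obtain ⟨d', hd'⟩ : g ∣ d := Nat.gcd_dvd_left _ _
  have hd'0 : d' ≠ 0 := by rintro rfl; simp at hd'; omega
  have hg0 : (g : ℂ) ≠ 0 := Nat.cast_ne_zero.2 (Nat.gcd_pos_of_pos_left _ hd0).ne'
  have hge : g ∣ e := by
    rw [hg, hk, Nat.Coprime.gcd_mul_right_cancel_right e]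
    · exact Nat.gcd_dvd_right _ _
    · exact Nat.Coprime.pow_left _ (hq.coprime_iff_not_dvd.2 hχq)
  set α : ZMod p → ℂ := fun m => (χ : S → ℂ) (x ^ m.val) / (d' : ℂ) with hα
  have hαint : ∀ m : ZMod p, m ≠ 0 → IsIntegral ℤ (α m) := by
    intro m hm
    have h1 := CfsgLib.Characters.isIntegral_index_mul_char_div ρ (x ^ m.val)
    rw [(hgen m hm).2.2, hρχ, hfin] at h1
    have h2 := CfsgLib.Characters.character_isIntegral
      (CfsgLib.Characters.isCharacter_of_isIrr χ.2) (x ^ m.val)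
    have hbez : ((g : ℕ) : ℂ) = (d : ℂ) * (Nat.gcdA d C.index : ℂ) +
        (C.index : ℂ) * (Nat.gcdB d C.index : ℂ) := by
      exact_mod_cast Nat.gcd_eq_gcd_ab d C.index
    have h3 : α m = (Nat.gcdA d C.index : ℂ) * (χ : S → ℂ) (x ^ m.val) +
        (Nat.gcdB d C.index : ℂ) *
          ((C.index : ℂ) * (χ : S → ℂ) (x ^ m.val) / (d : ℂ)) := by
      have hdC : (d : ℂ) ≠ 0 := Nat.cast_ne_zero.2 hd0.ne'
      have hd'C : (d' : ℂ) ≠ 0 := Nat.cast_ne_zero.2 hd'0
      simp only [hα]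
      field_simp
      have hdgd : ((d : ℕ) : ℂ) = (g : ℂ) * (d' : ℂ) := by exact_mod_cast hd'
      linear_combination (χ : S → ℂ) (x ^ m.val) * (d' : ℂ) * hbez + (χ : S → ℂ) (x ^ m.val) * hdgd
    rw [h3]
    exact ((isIntegral_algebraMap (R := ℤ) (x := Nat.gcdA d C.index)).mul h2).add
      ((isIntegral_algebraMap (R := ℤ) (x := Nat.gcdB d C.index)).mul h1)
  have hdiv : ∀ k : ZMod p, d' ∣ nn χ k := by
    intro k
    refine ((Nat.coprime_comm.1 (hp.coprime_iff_not_dvd.2 fun h => hdp (h.trans ⟨g, by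
      rw [hd', mul_comm]⟩))).dvd_of_dvd_mul_left) (CfsgLib.Characters.dvd_of_isIntegral_div hd'0 ?_)
    rw [Nat.cast_mul, ← fourier (f := fun m : ZMod p => (χ : S → ℂ) (x ^ m.val)) (hnn χ) k,
      ← Finset.add_sum_erase _ _ (Finset.mem_univ (0 : ZMod p)), add_div, Finset.sum_div]
    refine IsIntegral.add ?_ (IsIntegral.sum _ fun m hm => ?_)
    · rw [ZMod.val_zero, pow_zero, hdeg, ← hd, mul_zero, neg_zero, AddChar.map_zero_eq_one, mul_one,
        hd', Nat.cast_mul, mul_div_assoc, div_self (Nat.cast_ne_zero.2 hd'0), mul_one]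
      exact isIntegral_natCast _
    · rw [mul_div_right_comm]
      exact (hαint m (Finset.mem_erase.1 hm).1).mul (isIntegral_stdAddChar _)
  -- a single orbit of eigenvalues, each of multiplicity `d'`, and no fixed points
  obtain ⟨hn0, hde, hnle⟩ : nn χ 0 = 0 ∧ d = e * d' ∧ ∀ k, k ≠ 0 → nn χ k ≤ d' := by
    choose μ hμ using hdiv
    obtain ⟨R', hR', hR'le⟩ := exists_orbit_sum θ.range μ fun h hh k => by
      have h1 := hinv χ h hh k
      rw [hμ, hμ] at h1
      exact mul_left_cancel₀ hd'0 h1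
    rw [← he] at hR'
    have hsum : ∑ k, μ k = g := by
      refine mul_left_cancel₀ hd'0 ?_
      rw [Finset.mul_sum, mul_comm d' g, ← hd', hd]
      exact Finset.sum_congr rfl fun k _ => (hμ k).symm
    have hR1 : 1 ≤ R' := by
      by_contra h
      obtain ⟨k, hk, hk0⟩ : ∃ k : ZMod p, k ≠ 0 ∧ nn χ k ≠ 0 := by
        by_contra hall
        push Not at hall
        have h1 := hRsum χ
        rw [Finset.sum_eq_single 0 (fun i _ hi => hall i hi) (by simp)] at h1
        have := hRpos χ hχne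
        have : 0 < e * R χ := Nat.mul_pos he0 (by omega)
        omega
      have := hR'le k hk
      rw [hμ k, show μ k = 0 by omega, mul_zero] at hk0
      exact hk0 rfl
    have hgle : g ≤ e := Nat.le_of_dvd he0 hge
    have hR'1 : R' = 1 := by
      by_contra h
      have := Nat.mul_le_mul_left e (show 2 ≤ R' by omega)
      omega
    subst hR'1
    refine ⟨by rw [hμ 0, show μ 0 = 0 by omega, mul_zero], ?_, fun k hk => ?_⟩
    · rw [hd']
      congr 1
      omega
    · rw [hμ k]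
      exact (Nat.mul_le_mul_left d' (hR'le k hk)).trans (mul_one d').le
  have hsum0 : ∀ h : S, ∑ m : ZMod p, (χ : S → ℂ) (h * x ^ m.val) = 0 := by
    intro h
    rw [← hρχ]
    refine sum_coset_eq_zero ρ (orderOf_generator hP hxP hx ▸ pow_orderOf_eq_one x) ?_ h
    rw [hρχ, sum_eq_mul_zero (f := fun m : ZMod p => (χ : S → ℂ) (x ^ m.val)) (hnn χ), hn0,
      Nat.cast_zero, mul_zero]
  -- `P` is self-centralizing
  have hPC : (P : Subgroup S) ≤ C := by
    rw [hCdef]
    intro w hw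
    rw [← zpowers_generator hP hxP hx] at hw
    obtain ⟨i, rfl⟩ := hw
    exact Subgroup.mem_centralizer_singleton_iff.2 ((Commute.refl x).zpow_left i).eq
  have hreg : ∀ v ∈ C, ¬ p ∣ orderOf v → v = 1 := by
    intro v hv hvp
    refine eq_one_of_apply_eq_degree hχne ?_
    have hcomm : ∀ m : ℕ, Commute v (x ^ m) := fun m =>
      (show Commute v x from Subgroup.mem_centralizer_singleton_iff.1 hv).pow_right m
    have h1 := hsum0 v
    have h0 := hsum0 1
    simp only [one_mul] at h0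
    rw [← Finset.add_sum_erase _ _ (Finset.mem_univ (0 : ZMod p))] at h0 h1
    rw [Finset.sum_congr rfl (g := fun m : ZMod p => (χ : S → ℂ) (x ^ m.val)) fun m hm => by
      obtain ⟨hne, hmem, -⟩ := hgen m (Finset.mem_erase.1 hm).1
      rw [(hcomm _).eq]
      exact principal_translate hM hP hmem hne hχB (hcomm _) hvp] at h1
    rw [← h1] at h0
    simpa using (add_right_cancel h0).symm
  have hCP : C = (P : Subgroup S) := by
    refine P.3 (fun v => ?_) hPC
    obtain ⟨w, hw⟩ : ∃ w, w = ((v : C) : S) := ⟨_, rfl⟩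
    refine ⟨(orderOf w).factorization p, Subtype.ext ?_⟩
    rw [SubmonoidClass.coe_pow, ← hw, OneMemClass.coe_one]
    refine hreg _ (C.pow_mem (hw ▸ v.2) _) ?_
    rw [orderOf_pow' _ (pow_pos hp.pos _).ne', Nat.gcd_eq_right (Nat.ordProj_dvd _ _)]
    exact Nat.not_dvd_ordCompl hp (orderOf_pos w).ne'
  have hCc : Nat.card C = p := by rw [hCP, hP]
  have hcardS : Nat.card S = e * q ^ j * p := by
    rw [← Subgroup.index_mul_card C, hk, hCc]
  have hd'1 : d' = 1 := by
    have h1 : d ∣ e * q ^ j * p := hcardS ▸ hdvdS χ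
    have h2 : d ∣ e := (Nat.Coprime.pow_right j (Nat.coprime_comm.1 (hq.coprime_iff_not_dvd.2 hχq))).dvd_of_dvd_mul_right
      ((Nat.coprime_comm.1 (hp.coprime_iff_not_dvd.2 hdp)).dvd_of_dvd_mul_right h1)
    have h3 := Nat.le_of_dvd he0 h2
    rw [hde] at h3
    by_contra hne
    have h4 := Nat.mul_le_mul_left e (show 2 ≤ d' by omega)
    omega
  rw [hd'1, mul_one] at hde
  -- `e` is odd
  have heodd : ¬ Even e := by
    intro hee
    obtain ⟨⟨u, hu⟩, hgenu⟩ := IsCyclic.exists_generator (α := θ.range)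
    obtain ⟨n, hn⟩ := hu
    have hord : orderOf u = e := by
      rw [← Subgroup.orderOf_mk u (MonoidHom.mem_range.2 ⟨n, hn⟩)]
      exact orderOf_eq_card_of_forall_mem_zpowers hgenu
    have hne : (n : S) ^ (p * e) = 1 := by
      have h1 : θ (n ^ e) = 1 := by rw [map_pow, hn, ← hord, pow_orderOf_eq_one]
      rw [hθC, ← centralizer_generator hP hxP hx, ← hCdef, SubmonoidClass.coe_pow] at h1
      rw [mul_comm, pow_mul]
      have h2 := pow_card_eq_one' (x := (⟨_, h1⟩ : C))
      rw [hCc] at h2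
      exact congrArg Subtype.val h2
    set h := (n : S) ^ p with hh
    have hhe : h ^ e = 1 := by rw [hh, ← pow_mul, hne]
    have hchar : ∀ i : ℕ, ¬ e ∣ i → ρ.character (h ^ i) = 0 := by
      intro i hi
      rw [hρχ]
      set z := (n ^ (p * i))⁻¹ with hz
      set c : ZMod p := ((θ z : (ZMod p)ˣ) : ZMod p) with hc
      have hhi : h ^ i = ((z : S))⁻¹ := by
        rw [hh, ← pow_mul, hz, InvMemClass.coe_inv, inv_inv, SubmonoidClass.coe_pow]
      have hc1 : c ≠ 1 := by
        intro hc1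
        rw [hc, Units.val_eq_one, map_inv, inv_eq_one, map_pow, hn, ← orderOf_dvd_iff_pow_eq_one,
          hord] at hc1
        refine hi (Nat.Coprime.dvd_of_dvd_mul_left ?_ hc1)
        exact Nat.coprime_comm.1 (hp.coprime_iff_not_dvd.2 fun h =>
          absurd (Nat.le_of_dvd he0 h) (by omega))
      have hconj : ∀ m : ZMod p, (χ : S → ℂ) (h ^ i * x ^ m.val) = (χ : S → ℂ) (h ^ i) := by
        intro m
        set a : ZMod p := m / (c - 1) with ha
        refine CfsgLib.Characters.classFunction_isConj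
          (CfsgLib.Characters.isClassFunction_of_isIrr χ.2)
          (isConj_iff.2 ⟨(x ^ a.val)⁻¹, ?_⟩)
        have h1 : (z : S) * x ^ a.val * (z : S)⁻¹ = x ^ m.val * x ^ a.val := by
          rw [← conj_pow, hθ z, ← hc, ← pow_mul, ← pow_add, pow_val_eq_iff hP hxP hx, Nat.cast_mul,
            Nat.cast_add, ZMod.natCast_zmod_val, ZMod.natCast_zmod_val, ZMod.natCast_zmod_val, ha]
          field_simp [sub_ne_zero.2 hc1]
          ring
        rw [hhi]
        calc (x ^ a.val)⁻¹ * ((z : S)⁻¹ * x ^ m.val) * (x ^ a.val)⁻¹⁻¹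
            = (x ^ a.val)⁻¹ * (z : S)⁻¹ * (x ^ m.val * x ^ a.val) := by group
          _ = (x ^ a.val)⁻¹ * (z : S)⁻¹ * ((z : S) * x ^ a.val * (z : S)⁻¹) := by rw [h1]
          _ = (z : S)⁻¹ := by group
      have h1 := hsum0 (h ^ i)
      rw [Finset.sum_congr rfl fun m _ => hconj m, Finset.sum_const, Finset.card_univ, ZMod.card,
        nsmul_eq_mul, mul_eq_zero] at h1
      exact h1.resolve_left (Nat.cast_ne_zero.2 hp.ne_zero)
    have h1 := det_eq_neg_one ρ (hfin.trans hde) hee he0 hhe hchar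
    rw [det_eq_one_of_simple ρ hS] at h1
    norm_num at h1
  -- `p = 1 + t e` with `t ≥ 2`
  obtain ⟨t, ht⟩ := hep
  have hte : t * e + 1 = p := by rw [mul_comm, ← ht]; have := hp.two_le; omega
  have ht2 : 2 ≤ t := by
    rcases t with _ | _ | t
    · omega
    · exact absurd (show Even e by
        rcases hp.eq_two_or_odd' with h | h
        · omega
        · rw [show e = p - 1 by omega]; exact Nat.Odd.sub_odd h odd_one) heodd
    · omega
  -- the decomposition of `χ χ̄`
  obtain ⟨a, ha⟩ := CfsgLib.Characters.exists_nat_coeff (CfsgLib.Characters.isCharacter_mul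
    (CfsgLib.Characters.isCharacter_of_isIrr χ.2)
    (CfsgLib.Characters.isCharacter_conj (CfsgLib.Characters.isCharacter_of_isIrr χ.2)))
  have hΦ : ∀ y : S, ∑ ψ : IrrCharacter S, (a ψ : ℂ) * (ψ : S → ℂ) y =
      (χ : S → ℂ) y * conj ((χ : S → ℂ) y) := by
    intro y
    have := congrFun ha y
    simp only [Pi.mul_apply, Finset.sum_apply, Pi.smul_apply, smul_eq_mul] at this
    exact this.symm
  have htriv : a (trivChar S) = 1 := by
    have h1 := CfsgLib.Characters.classInner_irr_coeff (fun ψ => (a ψ : ℂ)) (trivChar S)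
    rw [← ha] at h1
    have h2 : Cfsg.classInner ((χ : S → ℂ) * fun g => conj ((χ : S → ℂ) g)) (trivChar S : S → ℂ) =
        Cfsg.classInner (χ : S → ℂ) (χ : S → ℂ) := by
      simp [Cfsg.classInner]
    rw [h2, CfsgLib.Characters.classInner_isIrr_self χ.2] at h1
    exact_mod_cast h1.symm
  have hdegsum : ∑ ψ : IrrCharacter S, a ψ * ∑ i, nn ψ i = e * e := by
    have h1 := hΦ 1
    simp only [hdeg, Complex.conj_natCast] at h1
    rw [← hd, hde] at h1
    exact_mod_cast h1
  have hfixsum : ∑ ψ : IrrCharacter S, a ψ * nn ψ 0 = e := by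
    have h1 : ∑ m : ZMod p, ∑ ψ : IrrCharacter S, (a ψ : ℂ) * (ψ : S → ℂ) (x ^ m.val) =
        ∑ m : ZMod p, (χ : S → ℂ) (x ^ m.val) * conj ((χ : S → ℂ) (x ^ m.val)) :=
      Finset.sum_congr rfl fun m _ => hΦ _
    rw [sum_norm_sq (f := fun m : ZMod p => (χ : S → ℂ) (x ^ m.val)) (hnn χ), Finset.sum_comm] at h1
    have hsq : ∀ i, nn χ i ^ 2 = nn χ i := by
      intro i
      rcases eq_or_ne i 0 with rfl | hi
      · rw [hn0]; rfl
      · have h := hnle i hi
        rw [hd'1] at h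
        rcases Nat.le_one_iff_eq_zero_or_eq_one.1 h with h | h <;> rw [h] <;> rfl
    rw [Finset.sum_congr rfl fun i _ => hsq i, ← hd, hde,
      Finset.sum_congr rfl (g := fun ψ : IrrCharacter S => (p : ℂ) * ((a ψ * nn ψ 0 : ℕ) : ℂ))
        fun ψ _ => by
          rw [← Finset.mul_sum, sum_eq_mul_zero (f := fun m : ZMod p => (ψ : S → ℂ) (x ^ m.val))
            (hnn ψ)]
          push_cast; ring,
      ← Finset.mul_sum, ← Nat.cast_sum] at h1
    exact_mod_cast mul_left_cancel₀ (Nat.cast_ne_zero.2 hp.ne_zero) h1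
  have hnt0 : nn (trivChar S) 0 = 1 := by
    have h1 := sum_eq_mul_zero (f := fun m : ZMod p => (trivChar S : S → ℂ) (x ^ m.val))
      (hnn (trivChar S))
    simp only [trivChar_apply, Finset.sum_const, Finset.card_univ, ZMod.card, nsmul_eq_mul,
      mul_one] at h1
    exact_mod_cast (mul_left_cancel₀ (Nat.cast_ne_zero.2 hp.ne_zero) ((mul_one _).trans h1)).symm
  have hnt1 : ∑ i, nn (trivChar S) i = 1 := by
    have h1 := hdeg (trivChar S)
    rw [trivChar_apply] at h1
    exact_mod_cast h1.symm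
  rw [← Finset.add_sum_erase _ _ (Finset.mem_univ (trivChar S)), htriv, one_mul] at hdegsum hfixsum
  rw [hnt1] at hdegsum
  rw [hnt0] at hfixsum
  set T := Finset.univ.erase (trivChar S) with hT
  have hterm : ∀ ψ ∈ T, a ψ * (nn ψ 0 * (p + 1)) ≤ a ψ * (2 * ∑ i, nn ψ i) := by
    intro ψ hψ
    rcases Nat.eq_zero_or_pos (a ψ) with h | h
    · simp [h]
    rcases Nat.eq_zero_or_pos (nn ψ 0) with h' | h'
    · simp [h']
    refine Nat.mul_le_mul_left _ ?_
    have hbound : nn ψ 0 + 1 ≤ e := by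
      have h1 := Finset.single_le_sum (f := fun ψ => a ψ * nn ψ 0) (fun _ _ => Nat.zero_le _) hψ
      have h2 := Nat.le_mul_of_pos_left (nn ψ 0) h
      omega
    rw [hRsum ψ]
    obtain ⟨c, hc, hcd⟩ : ∃ c : ℤ, (c = 0 ∨ c = 1 ∨ c = -1 ∨ c = (e : ℤ) ∨ c = -(e : ℤ)) ∧
        (p : ℤ) ∣ c - ((∑ i, nn ψ i : ℕ) : ℤ) := by
      by_cases hB : ψ ∈ Cfsg.principalBlock M S
      · have h1 := hblock ψ hB
        simp only [Int.modEq_iff_dvd, hcharDeg, ← he] at h1
        rcases h1 with h1 | h1 | h1 | h1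
        · exact ⟨_, Or.inr (Or.inl rfl), h1⟩
        · exact ⟨_, Or.inr (Or.inr (Or.inl rfl)), h1⟩
        · exact ⟨_, Or.inr (Or.inr (Or.inr (Or.inl rfl))), h1⟩
        · exact ⟨_, Or.inr (Or.inr (Or.inr (Or.inr rfl))), h1⟩
      · refine ⟨0, Or.inl rfl, ?_⟩
        have h1 := sum_eq_mul_zero (f := fun m : ZMod p => (ψ : S → ℂ) (x ^ m.val)) (hnn ψ)
        rw [← Finset.add_sum_erase _ _ (Finset.mem_univ (0 : ZMod p)),
          Finset.sum_eq_zero fun m hm => by
            obtain ⟨hne, hmem, hcen⟩ := hgen m (Finset.mem_erase.1 hm).1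
            exact eq_zero_of_not_mem_principal hM hP hmem hne (by rw [hcen]; exact hCc) hB,
          add_zero, ZMod.val_zero, pow_zero, hdeg] at h1
        have h2 : (∑ i, nn ψ i) = p * nn ψ 0 := by exact_mod_cast h1
        rw [h2, zero_sub, dvd_neg, Nat.cast_mul]
        exact dvd_mul_right _ _
    rw [hRsum ψ] at hcd
    push_cast at hcd
    exact degree_ineq hte ht2 hbound (hRpos ψ (Finset.mem_erase.1 hψ).1) hc hcd
  have hle := Finset.sum_le_sum hterm
  have hA : ∑ ψ ∈ T, a ψ * (nn ψ 0 * (p + 1)) = (∑ ψ ∈ T, a ψ * nn ψ 0) * (p + 1) := by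
    rw [Finset.sum_mul]; exact Finset.sum_congr rfl fun _ _ => by ring
  have hB : ∑ ψ ∈ T, a ψ * (2 * ∑ i, nn ψ i) = 2 * ∑ ψ ∈ T, a ψ * ∑ i, nn ψ i := by
    rw [Finset.mul_sum]; exact Finset.sum_congr rfl fun _ _ => by ring
  have ht_eq : t = 2 := by
    rw [hA, hB] at hle
    have h1 : t * e ≤ 2 * e := by nlinarith
    have := Nat.le_of_mul_le_mul_right h1 he0
    omega
  subst ht_eq
  have hsums : ∑ ψ ∈ T, a ψ * (nn ψ 0 * (p + 1)) = ∑ ψ ∈ T, a ψ * (2 * ∑ i, nn ψ i) := by
    rw [hA, hB]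
    nlinarith
  obtain ⟨ψ, hψ, hψ0⟩ := Finset.exists_ne_zero_of_sum_ne_zero
    (show ∑ ψ ∈ T, a ψ * nn ψ 0 ≠ 0 by omega)
  rw [mul_ne_zero_iff] at hψ0
  have heq := mul_left_cancel₀ hψ0.1 ((Finset.sum_eq_sum_iff_of_le hterm).1 hsums ψ hψ)
  have hD : ∑ i, nn ψ i = nn ψ 0 * (e + 1) := by
    rw [show p + 1 = 2 * (e + 1) by omega, mul_left_comm] at heq
    exact (mul_left_cancel₀ two_ne_zero heq).symm
  have hdvd : e + 1 ∣ e * q ^ j * p := hcardS ▸ ((dvd_mul_left _ _).trans (hD ▸ hdvdS ψ))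
  have hdvd2 : e + 1 ∣ q ^ j := by
    have h1 : (e + 1).Coprime p := by
      refine Nat.coprime_comm.1 (hp.coprime_iff_not_dvd.2 fun h => ?_)
      have := Nat.le_of_dvd (by omega) h
      omega
    have h2 : (e + 1).Coprime e := by
      rw [Nat.coprime_self_add_left]
      exact Nat.coprime_one_left e
    exact h2.dvd_of_dvd_mul_left (h1.dvd_of_dvd_mul_right hdvd)
  obtain ⟨i, -, hi⟩ := (Nat.dvd_prime_pow hq).1 hdvd2
  have hq2 : q = 2 := by
    have heven : Even (e + 1) := by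
      rw [Nat.even_add_one]
      exact heodd
    rw [hi] at heven
    exact (Nat.prime_dvd_prime_iff_eq Nat.prime_two hq).1
      (Nat.prime_two.dvd_of_dvd_pow (even_iff_two_dvd.1 heven)) |>.symm
  refine ⟨by omega, i + 1, ?_⟩
  rw [pow_succ, ← hq2, ← hi, hq2]
  omega

end CfsgLib.SylowPrimePower
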