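import Cfsg.Agent.SylowPrimePower.Key
import Cfsg.Agent.SylowNumber.MaxNormal
import Cfsg.Agent.PLocal.PSolvable

/-!
# Sylow numbers below `p ^ 2` and `p`-solubility

P. Hall's description of the Sylow number of a `p`-soluble group, and the reduction of the converse
for prime power numbers below `p ^ 2` to simple groups.
-/

set_option autoImplicit false
set_option linter.unusedSectionVars false

namespace CfsgLib.SylowPrimePower

open Cfsg CfsgLib.PLocal

universe u

variable {p : ℕ} [hpf : Fact p.Prime]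

theorem card_sylow_eq_one_of_normal {G : Type u} [Group G] [Finite G] (P : Sylow p G)
    [(P : Subgroup G).Normal] : Nat.card (Sylow p G) = 1 := by
  rw [P.card_eq_index_normalizer, ← Sylow.coe_coe, Subgroup.normalizer_eq_top, Subgroup.index_top]

/-- Hall: in a `p`-soluble group every prime power part of the Sylow number is `1` modulo `p`. -/
theorem modEq_one_of_isPSolvable : ∀ (n : ℕ) {G : Type u} [Group G] [Finite G], Nat.card G = n →
    Cfsg.IsPSolvable p G → ∀ l : ℕ, l.Prime →
      l ^ (Nat.card (Sylow p G)).factorization l ≡ 1 [MOD p] := by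
  intro n
  induction n using Nat.strong_induction_on with
  | _ n ih =>
  intro G _ _ hn hG l hl
  have hone : Nat.card (Sylow p G) = 1 →
      l ^ (Nat.card (Sylow p G)).factorization l ≡ 1 [MOD p] := fun h => by
    rw [h, Nat.factorization_one, Finsupp.zero_apply, pow_zero]
  obtain ⟨P⟩ : Nonempty (Sylow p G) := Sylow.nonempty
  rcases subsingleton_or_nontrivial G with h | h
  · haveI : (P : Subgroup G).Normal := ⟨fun y hy g => by rwa [Subsingleton.elim (g * y * g⁻¹) y]⟩
    exact hone (card_sylow_eq_one_of_normal P)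
  by_cases hsimple : IsSimpleGroup G
  · have : (P : Subgroup G) = ⊥ ∨ (P : Subgroup G) = ⊤ := by
      rcases pCore_ne_bot_or_of_isPSolvable hG with h1 | h1
      · have h2 := (hsimple.eq_bot_or_eq_top_of_normal _ inferInstance).resolve_left h1
        have h3 : IsPGroup p G := IsPGroup.of_surjective (isPGroup_pCore p G) (Cfsg.pCore p G).subtype
          (fun g => ⟨⟨g, h2 ▸ Subgroup.mem_top g⟩, rfl⟩)
        exact Or.inr (P.3 (h3.to_subgroup ⊤) le_top).symm
      · have h2 := (hsimple.eq_bot_or_eq_top_of_normal _ inferInstance).resolve_left h1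
        have h3 := coprime_card_pPrimeCore p G
        rw [h2, Subgroup.card_top] at h3
        left
        obtain ⟨k, hk⟩ := IsPGroup.iff_card.mp P.2
        refine Subgroup.eq_bot_of_card_eq _ (Nat.eq_one_of_dvd_coprimes h3
          (Subgroup.card_subgroup_dvd_card _) ?_ |>.trans rfl)
        rcases k with _ | k
        · simp [hk]
        · exfalso
          refine absurd ((Nat.dvd_trans (dvd_pow_self p k.succ_ne_zero)
            (hk ▸ Subgroup.card_subgroup_dvd_card (P : Subgroup G)))) ?_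
          exact hpf.out.coprime_iff_not_dvd.1 h3.symm
    haveI : (P : Subgroup G).Normal := by
      rcases this with h1 | h1 <;> rw [h1] <;> infer_instance
    exact hone (card_sylow_eq_one_of_normal P)
  obtain ⟨N, hNn, hNs, hNlt⟩ := CfsgLib.SylowNumber.exists_normal_simple_quotient G
  have hNb : N ≠ ⊥ := by
    rintro rfl
    exact hsimple (IsSimpleGroup.isSimpleGroup_of_surjective
      (QuotientGroup.quotientBot (G := G)).toMonoidHom (QuotientGroup.quotientBot (G := G)).surjective)
  have hQlt : Nat.card (G ⧸ N) < n := by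
    rw [← hn, Subgroup.card_eq_card_quotient_mul_card_subgroup N]
    exact lt_mul_of_one_lt_right Nat.card_pos (N.one_lt_card_iff_ne_bot.mpr hNb)
  obtain ⟨c, hcdvd, hceq, hc⟩ := CfsgLib.SylowNumber.card_sylow_eq (p := p) N
  have hc0 : c ≠ 0 := by rintro rfl; rw [zero_dvd_iff] at hcdvd; exact Nat.card_pos.ne' hcdvd
  have h1 := ih _ hQlt rfl (isPSolvable_quotient hG N) l hl
  have h2 := ih _ (hn ▸ hNlt) rfl (isPSolvable_subgroup hG N) l hl
  rw [hceq, Nat.factorization_mul (Nat.mul_ne_zero Nat.card_pos.ne' Nat.card_pos.ne') hc0,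
    Nat.factorization_mul Nat.card_pos.ne' Nat.card_pos.ne', Finsupp.add_apply, Finsupp.add_apply,
    pow_add, pow_add]
  simpa using (h1.mul h2).mul (hc l hl)

/-- A product of prime powers `≡ 1` modulo `p` that is less than `p ^ 2` is a prime power. -/
theorem exists_prime_pow_of_lt {m : ℕ} (hm : m ≠ 0) (hlt : m < p ^ 2)
    (h : ∀ l : ℕ, l.Prime → l ^ m.factorization l ≡ 1 [MOD p]) :
    ∃ q k : ℕ, q.Prime ∧ m = q ^ k := by
  by_cases hm1 : m = 1
  · exact ⟨2, 0, Nat.prime_two, by simp [hm1]⟩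
  have hbig : ∀ l : ℕ, l.Prime → l ∣ m → p + 1 ≤ l ^ m.factorization l := by
    intro l hl hlm
    have h1 : 1 < l ^ m.factorization l :=
      Nat.one_lt_pow (Nat.Prime.factorization_pos_of_dvd hl hm hlm).ne' hl.one_lt
    have h2 := Nat.le_of_dvd (by omega) ((Nat.modEq_iff_dvd' h1.le).1 (h l hl).symm)
    omega
  have hl : (Nat.minFac m).Prime := Nat.minFac_prime hm1
  refine ⟨Nat.minFac m, m.factorization (Nat.minFac m), hl, ?_⟩
  by_contra hne
  have hmul := Nat.ordProj_mul_ordCompl_eq_self m (Nat.minFac m)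
  obtain ⟨l', hl', hl'm⟩ := Nat.exists_prime_and_dvd
    (n := m / Nat.minFac m ^ m.factorization (Nat.minFac m)) fun h1 => hne (by
      rw [h1, mul_one] at hmul
      exact hmul.symm)
  have hll' : l' ≠ Nat.minFac m := fun e => Nat.not_dvd_ordCompl hl hm (e ▸ hl'm)
  have hd : Nat.minFac m ^ m.factorization (Nat.minFac m) * l' ^ m.factorization l' ∣ m :=
    Nat.Coprime.mul_dvd_of_dvd_of_dvd
      (((Nat.coprime_primes hl hl').2 hll'.symm).pow _ _) (Nat.ordProj_dvd m _) (Nat.ordProj_dvd m _)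
  have h1 := hbig _ hl (Nat.minFac_dvd m)
  have h2 := hbig _ hl' (hl'm.trans (Nat.ordCompl_dvd m _))
  have h3 := Nat.le_of_dvd (Nat.pos_of_ne_zero hm) hd
  nlinarith

/-- A group with a prime power number, below `p ^ 2`, of Sylow `p`-subgroups is `p`-soluble,
unless `p > 3` is a Mersenne prime. -/
theorem isPSolvable_of_prime_pow (hp : ¬ (3 < p ∧ ∃ k : ℕ, p + 1 = 2 ^ k)) :
    ∀ (n : ℕ) {G : Type u} [Group G] [Finite G], Nat.card G = n →
      Nat.card (Sylow p G) < p ^ 2 → (∃ q k : ℕ, q.Prime ∧ Nat.card (Sylow p G) = q ^ k) →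
      Cfsg.IsPSolvable p G := by
  intro n
  induction n using Nat.strong_induction_on with
  | _ n ih =>
  intro G _ _ hn hlt hpow
  obtain ⟨q, k, hq, hk⟩ := hpow
  by_cases hcop : (Nat.card G).Coprime p
  · exact isPSolvable_of_coprime hcop
  have hpG : p ∣ Nat.card G := by
    by_contra h
    exact hcop (hpf.out.coprime_iff_not_dvd.2 h).symm
  have : Nontrivial G := Finite.one_lt_card_iff_nontrivial.1
    (hpf.out.one_lt.trans_le (Nat.le_of_dvd Nat.card_pos hpG))
  by_cases hsimple : IsSimpleGroup G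
  · by_cases hc : IsMulCommutative G
    · have : Fact p.Prime := hpf
      obtain ⟨P⟩ : Nonempty (Sylow p G) := Sylow.nonempty
      have h1 : (P : Subgroup G) = ⊤ :=
        (hsimple.eq_bot_or_eq_top_of_normal _ ⟨fun y hy g => by
          rwa [hc.is_comm.comm g y, mul_inv_cancel_right]⟩).resolve_left (P.ne_bot_of_dvd_card hpG)
      refine isPSolvable_of_isPGroup (IsPGroup.of_surjective P.2 (P : Subgroup G).subtype
        fun g => ⟨⟨g, h1 ▸ Subgroup.mem_top g⟩, rfl⟩)
    · haveI := Fintype.ofFinite G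
      exact absurd (mersenne_of_simple hc p hpG hlt hq hk) hp
  obtain ⟨N, hNn, hNs, hNlt⟩ := CfsgLib.SylowNumber.exists_normal_simple_quotient G
  have hNb : N ≠ ⊥ := by
    rintro rfl
    exact hsimple (IsSimpleGroup.isSimpleGroup_of_surjective
      (QuotientGroup.quotientBot (G := G)).toMonoidHom (QuotientGroup.quotientBot (G := G)).surjective)
  have hQlt : Nat.card (G ⧸ N) < n := by
    rw [← hn, Subgroup.card_eq_card_quotient_mul_card_subgroup N]
    exact lt_mul_of_one_lt_right Nat.card_pos (N.one_lt_card_iff_ne_bot.mpr hNb)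
  obtain ⟨c, -, hceq, -⟩ := CfsgLib.SylowNumber.card_sylow_eq (p := p) N
  have hsub : ∀ a : ℕ, a ∣ Nat.card (Sylow p G) →
      a < p ^ 2 ∧ ∃ q k : ℕ, q.Prime ∧ a = q ^ k := fun a ha =>
    ⟨(Nat.le_of_dvd Nat.card_pos ha).trans_lt hlt, by
      rw [hk] at ha
      obtain ⟨i, -, hi⟩ := (Nat.dvd_prime_pow hq).1 ha
      exact ⟨q, i, hq, hi⟩⟩
  obtain ⟨hQ1, hQ2⟩ := hsub (Nat.card (Sylow p (G ⧸ N))) ⟨_, hceq.trans (mul_assoc _ _ _)⟩
  obtain ⟨hN1, hN2⟩ := hsub (Nat.card (Sylow p N)) ⟨Nat.card (Sylow p (G ⧸ N)) * c, by rw [hceq]; ring⟩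
  exact isPSolvable_of_extension N (ih _ (hn ▸ hNlt) rfl hN1 hN2) (ih _ hQlt rfl hQ1 hQ2)

end CfsgLib.SylowPrimePower
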