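import Cfsg.Agent.BlocksCyclic.Main
import Cfsg.Agent.Characters.Integrality

/-!
# Characters on a Sylow subgroup of prime order

Eigenvalue multiplicities as Fourier coefficients, and the values of the principal block on the
`p`-regular part of the centralizer of a `p`-element.
-/

set_option autoImplicit false
set_option linter.unusedSectionVars false

namespace CfsgLib.SylowPrimePower

open Cfsg CfsgLib.Blocks CfsgLib.PrincipalBlock CfsgLib.BlocksCyclic
open scoped ComplexConjugate

universe u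

section Additive

variable {p : ℕ} [Fact p.Prime]

theorem sum_stdAddChar_mul (a : ZMod p) :
    ∑ m : ZMod p, (ZMod.stdAddChar (m * a) : ℂ) = if a = 0 then (p : ℂ) else 0 := by
  rw [AddChar.sum_mulShift a (ZMod.isPrimitive_stdAddChar p), ZMod.card]
  split_ifs <;> simp

theorem isIntegral_stdAddChar (a : ZMod p) : IsIntegral ℤ (ZMod.stdAddChar a : ℂ) := by
  refine IsIntegral.of_pow (Fact.out : p.Prime).pos ?_
  rw [← AddChar.map_nsmul_eq_pow, nsmul_eq_mul, ZMod.natCast_self, zero_mul,
    AddChar.map_zero_eq_one]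
  exact isIntegral_one

variable {f : ZMod p → ℂ} {n : ZMod p → ℕ}
  (hn : ∀ m : ZMod p, f m = ∑ i : ZMod p, (n i : ℂ) * ZMod.stdAddChar (i * m))

include hn

theorem fourier (k : ZMod p) :
    ∑ m : ZMod p, f m * ZMod.stdAddChar (-(k * m)) = (p : ℂ) * (n k : ℂ) := by
  simp only [hn, Finset.sum_mul]
  rw [Finset.sum_comm, Finset.sum_eq_single k]
  · rw [Finset.sum_congr rfl (g := fun _ => (n k : ℂ)) fun m _ => by
      rw [mul_assoc, ← AddChar.map_add_eq_mul, add_neg_cancel, AddChar.map_zero_eq_one, mul_one],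
      Finset.sum_const, Finset.card_univ, ZMod.card, nsmul_eq_mul]
  · intro i _ hik
    rw [Finset.sum_congr rfl (g := fun m => (n i : ℂ) * ZMod.stdAddChar (m * (i - k))) fun m _ => by
      rw [mul_assoc, ← AddChar.map_add_eq_mul]; ring_nf, ← Finset.mul_sum, sum_stdAddChar_mul,
      if_neg (sub_ne_zero.2 hik), mul_zero]
  · simp

theorem sum_eq_mul_zero : ∑ m : ZMod p, f m = (p : ℂ) * (n 0 : ℂ) := by
  rw [← fourier hn 0]
  simp

theorem sum_mult : f 0 = ((∑ i, n i : ℕ) : ℂ) := by
  rw [hn 0, Nat.cast_sum]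
  simp

theorem sum_norm_sq : ∑ m : ZMod p, f m * conj (f m) = (p : ℂ) * ((∑ i, n i ^ 2 : ℕ) : ℂ) := by
  have h : ∀ m, conj (f m) = ∑ i : ZMod p, (n i : ℂ) * ZMod.stdAddChar (-(i * m)) := by
    intro m
    rw [hn, map_sum]
    refine Finset.sum_congr rfl fun i _ => ?_
    rw [map_mul, map_natCast, AddChar.map_neg_eq_conj]
  simp only [h, Finset.mul_sum]
  rw [Finset.sum_comm, Nat.cast_sum, Finset.mul_sum]
  refine Finset.sum_congr rfl fun i _ => ?_
  rw [Finset.sum_congr rfl (g := fun m => (n i : ℂ) * (f m * ZMod.stdAddChar (-(i * m))))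
    fun m _ => by ring, ← Finset.mul_sum, fourier hn]
  push_cast
  ring

theorem invariant {c : ZMod p} (hc : c ≠ 0) (hf : ∀ m, f (c * m) = f m) (k : ZMod p) :
    n (c * k) = n k := by
  have h1 : (p : ℂ) * (n (c * k) : ℂ) = (p : ℂ) * (n k : ℂ) := by
    rw [← fourier hn, ← fourier hn]
    refine Fintype.sum_equiv (Equiv.mulLeft₀ c hc) _ _ fun m => ?_
    show _ = f (c * m) * ZMod.stdAddChar (-(k * (c * m)))
    rw [hf]
    congr 2
    ring
  exact_mod_cast mul_left_cancel₀ (Nat.cast_ne_zero.2 (Fact.out : p.Prime).ne_zero) h1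

end Additive

/-- A function on `ZMod p` invariant under a group `E` of units: the sum over nonzero residues is
`|E|` times a sum of orbit values. -/
theorem exists_orbit_sum {p : ℕ} [Fact p.Prime] (E : Subgroup (ZMod p)ˣ) (n : ZMod p → ℕ)
    (hinv : ∀ h ∈ E, ∀ k : ZMod p, n ((h : ZMod p) * k) = n k) :
    ∃ R : ℕ, ∑ k, n k = n 0 + Nat.card E * R ∧ ∀ k, k ≠ 0 → n k ≤ R := by
  classical
  haveI := Fintype.ofFinite ((ZMod p)ˣ ⧸ E)
  haveI := Fintype.ofFinite E
  set r : (ZMod p)ˣ ⧸ E → ℕ := fun q => n ((q.out : (ZMod p)ˣ) : ZMod p) with hr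
  have hout : ∀ u : (ZMod p)ˣ, n (u : ZMod p) = r (QuotientGroup.mk u) := by
    intro u
    obtain ⟨h, hh⟩ := QuotientGroup.mk_out_eq_mul E u
    rw [hr]
    dsimp only
    rw [hh, Units.val_mul, mul_comm, hinv _ h.2]
  refine ⟨∑ q, r q, ?_, fun k hk => ?_⟩
  · rw [← Finset.add_sum_erase _ _ (Finset.mem_univ (0 : ZMod p))]
    congr 1
    calc ∑ k ∈ Finset.univ.erase (0 : ZMod p), n k = ∑ u : (ZMod p)ˣ, n (u : ZMod p) :=
          (Finset.sum_nbij (fun u : (ZMod p)ˣ => (u : ZMod p)) (fun u _ => by simp)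
            (fun u _ v _ h => Units.ext h)
            (fun k hk => ⟨Units.mk0 k (by simpa using hk), by simp, rfl⟩) fun u _ => rfl).symm
      _ = ∑ x : ((ZMod p)ˣ ⧸ E) × E, r x.1 :=
          Fintype.sum_equiv Subgroup.groupEquivQuotientProdSubgroup _ _ fun u => hout u
      _ = Nat.card E * ∑ q, r q := by
          rw [Fintype.sum_prod_type, Finset.mul_sum]
          refine Finset.sum_congr rfl fun q _ => ?_
          simp [Nat.card_eq_fintype_card]
  · rw [show k = ((Units.mk0 k hk : (ZMod p)ˣ) : ZMod p) from rfl, hout]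
    exact Finset.single_le_sum (f := r) (fun _ _ => Nat.zero_le _) (Finset.mem_univ _)

variable {G : Type u} [Group G] [Fintype G] {p : ℕ} [Fact p.Prime] {M : Ideal AlgInt} [M.IsPrime]

open Classical in
/-- The principal block is constant on the `p`-regular part of the centralizer of a nontrivial
element of a Sylow subgroup of order `p`. -/
theorem principal_translate (hM : Cfsg.IsPModular p M) {P : Sylow p G}
    (hP : Nat.card (P : Subgroup G) = p) {y : G} (hyP : y ∈ (P : Subgroup G)) (hy : y ≠ 1)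
    {χ : IrrCharacter G} (hχ : χ ∈ Cfsg.principalBlock M G) {v : G} (hv : Commute v y)
    (hreg : ¬ p ∣ orderOf v) : (χ : G → ℂ) (y * v) = (χ : G → ℂ) y := by
  set C := Subgroup.centralizer ({y} : Set G)
  haveI := Fintype.ofFinite C
  have hxo : ∃ k, orderOf y = p ^ k := ⟨1, by rw [orderOf_generator hP hyP hy, pow_one]⟩
  obtain ⟨K, hKn, hK, hKi⟩ := exists_normal_complement_centralizer hP hyP hy
  set w : C := ⟨v, Subgroup.mem_centralizer_singleton_iff.2 hv.eq⟩
  have hw : ¬ p ∣ orderOf w := by rwa [← Subgroup.orderOf_coe]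
  have hwK : w ∈ K := by
    rw [← QuotientGroup.eq_one_iff]
    refine orderOf_eq_one_iff.1 (Nat.eq_one_of_dvd_coprimes
      ((Fact.out : p.Prime).coprime_iff_not_dvd.2 hw) ?_ (orderOf_map_dvd (QuotientGroup.mk' K) w))
    rw [← hKi]
    exact orderOf_dvd_natCard _
  have hcoef : ∀ c : C, Cfsg.blockCoeff (Cfsg.principalBlock M C) c =
      (p : ℂ) / (Nat.card C : ℂ) * Set.indicator (K : Set C) (fun _ => (1 : ℂ)) c := by
    intro c
    have h := BlocksLocal.blockCoeff_principal_of_normal_complement hM K hK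
      ⟨1, by rw [hKi, pow_one]⟩ c
    rw [hKi] at h
    rw [div_mul_eq_mul_div, ← h, mul_div_cancel_left₀ _ (Nat.cast_ne_zero.2 Nat.card_pos.ne')]
  have hval : ∀ u : C, ¬ p ∣ orderOf u → (χ : G → ℂ) (y * (u : G)) =
      ∑ c : C, Cfsg.blockCoeff (Cfsg.principalBlock M C) c *
        (χ : G → ℂ) (y * ((c * u : C) : G)) := by
    intro u hu
    have h := BlocksLocal.blockPart_principal_translate hM hxo χ (y := u) hu
    rw [blockPart_eq_sum _ (isClassFunction_translate (χ : G → ℂ)
      (Characters.isClassFunction_of_isIrr χ.2) y), if_pos hχ] at h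
    exact h.symm
  have h1 := hval w hw
  have h0 := hval 1 (by rw [orderOf_one]; exact (Fact.out : p.Prime).not_dvd_one)
  simp only [OneMemClass.coe_one, mul_one] at h0
  rw [show (w : G) = v from rfl] at h1
  rw [h1, h0]
  refine Fintype.sum_equiv (Equiv.mulRight w) _ _ fun c => ?_
  simp only [Equiv.coe_mulRight, hcoef]
  congr 2
  simp only [Set.indicator, SetLike.mem_coe, Subgroup.mul_mem_cancel_right K hwK]

open Classical in
/-- A character outside the principal block vanishes at a self-centralizing element of order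
`p`. -/
theorem eq_zero_of_not_mem_principal (hM : Cfsg.IsPModular p M) {P : Sylow p G}
    (hP : Nat.card (P : Subgroup G) = p) {y : G} (hyP : y ∈ (P : Subgroup G)) (hy : y ≠ 1)
    (hC : Nat.card (Subgroup.centralizer ({y} : Set G)) = p) {χ : IrrCharacter G}
    (hχ : χ ∉ Cfsg.principalBlock M G) : (χ : G → ℂ) y = 0 := by
  have h1 := sum_principal_mul_conj hP hyP hy hM hyP
  rw [if_pos (IsConj.refl y)] at h1
  have h2 := Characters.sum_irr_mul_conj_of_isConj (IsConj.refl y)
  rw [hC, ← h1, ← sub_eq_zero, ← Finset.sum_sub_distrib] at h2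
  have h3 : (∑ η : IrrCharacter G,
      if η ∈ Cfsg.principalBlock M G then (0 : ℝ) else Complex.normSq ((η : G → ℂ) y)) = 0 := by
    apply Complex.ofReal_injective
    rw [Complex.ofReal_sum, Complex.ofReal_zero, ← h2]
    refine Finset.sum_congr rfl fun η _ => ?_
    split_ifs <;> simp [Complex.normSq_eq_conj_mul_self, mul_comm]
  have h4 := (Finset.sum_eq_zero_iff_of_nonneg fun η _ => by
    split_ifs <;> simp [Complex.normSq_nonneg]).1 h3 χ (Finset.mem_univ _)
  rw [if_neg hχ] at h4
  exact Complex.normSq_eq_zero.1 h4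

end CfsgLib.SylowPrimePower
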