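import Cfsg.Agent.SylowPrimePower.Fourier
import Cfsg.Agent.Characters.RepBasic

/-!
# Representations without fixed points of an element of prime order, and determinants
-/

set_option autoImplicit false
set_option linter.unusedSectionVars false

namespace CfsgLib.SylowPrimePower

open CfsgLib.Characters
open scoped ComplexConjugate

universe u v

variable {G : Type u} [Group G] [Finite G] {V : Type v} [AddCommGroup V] [Module ℂ V]
  [FiniteDimensional ℂ V] (ρ : Representation ℂ G V)

theorem apply_pow_eigen {g : G} {b : V} {μ : ℂ} (h : ρ g b = μ • b) (j : ℕ) :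
    ρ (g ^ j) b = μ ^ j • b := by
  induction j with
  | zero => simp
  | succ j ih => rw [pow_succ', map_mul, Module.End.mul_apply, ih, map_smul, h, smul_smul, ← pow_succ]

/-- If the character sums to zero over the powers of an element `x` of order `p`, it sums to zero
over every coset of `⟨x⟩`. -/
theorem sum_coset_eq_zero {p : ℕ} [Fact p.Prime] {x : G} (hx : x ^ p = 1)
    (h0 : ∑ m : ZMod p, ρ.character (x ^ m.val) = 0) (h : G) :
    ∑ m : ZMod p, ρ.character (h * x ^ m.val) = 0 := by
  classical
  obtain ⟨b, μ, hb⟩ := exists_eigenbasis ρ x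
  have hμ : ∀ i, μ i ^ p = 1 := by
    intro i
    obtain ⟨c, hc⟩ := orderOf_dvd_of_pow_eq_one hx
    rw [hc, pow_mul, (hb i).2, one_pow]
  have hs : ∀ i, (∑ m : ZMod p, μ i ^ m.val) = if μ i = 1 then (p : ℂ) else 0 := by
    intro i
    split_ifs with h1
    · simp [h1]
    · have hshift : (∑ m : ZMod p, μ i ^ m.val) * μ i = ∑ m : ZMod p, μ i ^ m.val := by
        rw [Finset.sum_mul]
        refine Fintype.sum_equiv (Equiv.addRight (1 : ZMod p)) _ _ fun m => ?_
        rw [Equiv.coe_addRight, ← pow_succ, ZMod.val_add, ZMod.val_one, ← pow_eq_pow_mod _ (hμ i)]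
      have h2 : (∑ m : ZMod p, μ i ^ m.val) * (μ i - 1) = 0 := by
        rw [mul_sub, mul_one, hshift, sub_self]
      exact (mul_eq_zero.1 h2).resolve_right (sub_ne_zero.2 h1)
  have htr : ∀ j : ℕ, ρ.character (x ^ j) = ∑ i, μ i ^ j := by
    intro j
    rw [Representation.character, LinearMap.trace_eq_matrix_trace ℂ b, Matrix.trace]
    refine Finset.sum_congr rfl fun i _ => ?_
    rw [Matrix.diag, LinearMap.toMatrix_apply, apply_pow_eigen ρ (hb i).1 j]
    simp
  have hne : ∀ i, μ i ≠ 1 := by
    simp only [htr] at h0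
    rw [Finset.sum_comm, Finset.sum_congr rfl fun i _ => hs i, ← Finset.sum_filter, Finset.sum_const,
      nsmul_eq_mul, mul_eq_zero, Nat.cast_eq_zero, Finset.card_eq_zero,
      Finset.filter_eq_empty_iff] at h0
    exact fun i => (h0.resolve_right (Nat.cast_ne_zero.2 (Fact.out : p.Prime).ne_zero))
      (Finset.mem_univ i)
  have hT : (∑ m : ZMod p, ρ (x ^ m.val)) = 0 := b.ext fun i => by
    rw [LinearMap.sum_apply, Finset.sum_congr rfl fun m _ => apply_pow_eigen ρ (hb i).1 m.val,
      ← Finset.sum_smul, hs, if_neg (hne i), zero_smul, LinearMap.zero_apply]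
  simp only [Representation.character, map_mul]
  rw [← map_sum, ← Finset.mul_sum, hT, mul_zero, map_zero]

/-- An element of even order `e` with regular character on its cyclic group has determinant
`-1`. -/
theorem det_eq_neg_one {e : ℕ} (he : Module.finrank ℂ V = e) (hee : Even e) (he0 : 0 < e) {g : G}
    (hg : g ^ e = 1) (hchar : ∀ j : ℕ, ¬ e ∣ j → ρ.character (g ^ j) = 0) :
    LinearMap.det (ρ g) = -1 := by
  classical
  obtain ⟨b, μ, hb⟩ := exists_eigenbasis ρ g
  have hμ : ∀ i, μ i ^ e = 1 := by
    intro i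
    obtain ⟨c, hc⟩ := orderOf_dvd_of_pow_eq_one hg
    rw [hc, pow_mul, (hb i).2, one_pow]
  have htr : ∀ j : ℕ, ρ.character (g ^ j) = ∑ i, μ i ^ j := by
    intro j
    rw [Representation.character, LinearMap.trace_eq_matrix_trace ℂ b, Matrix.trace]
    refine Finset.sum_congr rfl fun i _ => ?_
    rw [Matrix.diag, LinearMap.toMatrix_apply, apply_pow_eigen ρ (hb i).1 j]
    simp
  -- each `e`-th root of unity occurs exactly once
  have hcount : ∀ z : ℂ, z ^ e = 1 → (Finset.univ.filter fun i => μ i = z).card = 1 := by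
    intro z hz
    have hz0 : z ≠ 0 := fun h => by rw [h, zero_pow he0.ne'] at hz; exact zero_ne_one hz
    have hgeo : ∀ i, ∑ j ∈ Finset.range e, (μ i / z) ^ j = if μ i = z then (e : ℂ) else 0 := by
      intro i
      split_ifs with h1
      · simp [h1, div_self hz0]
      · rw [geom_sum_eq (fun h => h1 ((div_eq_one_iff_eq hz0).1 h)), div_pow, hμ, hz, div_one,
          sub_self, zero_div]
    have h1 : ∑ i, ∑ j ∈ Finset.range e, (μ i / z) ^ j = (e : ℂ) := by
      rw [Finset.sum_comm, Finset.sum_eq_single 0]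
      · simp [he]
      · intro j hj hj0
        simp only [div_pow, ← Finset.sum_div, ← htr]
        rw [hchar j fun h => hj0 (Nat.eq_zero_of_dvd_of_lt h (Finset.mem_range.1 hj)), zero_div]
      · simp [he0.ne']
    rw [Finset.sum_congr rfl fun i _ => hgeo i, ← Finset.sum_filter, Finset.sum_const,
      nsmul_eq_mul] at h1
    have h2 := mul_right_cancel₀ (Nat.cast_ne_zero.2 he0.ne') (h1.trans (one_mul _).symm)
    exact_mod_cast h2
  have hinj : Function.Injective μ := by
    intro i j hij
    obtain ⟨a, ha⟩ := Finset.card_eq_one.1 (hcount (μ i) (hμ i))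
    have hi : i ∈ Finset.univ.filter fun k => μ k = μ i := by simp
    have hj : j ∈ Finset.univ.filter fun k => μ k = μ i := by simp [hij]
    rw [ha, Finset.mem_singleton] at hi hj
    rw [hi, hj]
  set s := Finset.univ.image μ with hs
  have hmem : ∀ z, z ∈ s ↔ z ^ e = 1 := by
    intro z
    refine ⟨fun hz => ?_, fun hz => ?_⟩
    · obtain ⟨i, -, rfl⟩ := Finset.mem_image.1 hz
      exact hμ i
    · obtain ⟨a, ha⟩ := Finset.card_eq_one.1 (hcount z hz)
      have : a ∈ Finset.univ.filter fun k => μ k = z := by rw [ha]; simp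
      exact Finset.mem_image.2 ⟨a, Finset.mem_univ a, (Finset.mem_filter.1 this).2⟩
  have hprod : ∏ z ∈ s, z = -1 := by
    rw [← Finset.mul_prod_erase s (fun z => z) ((hmem (-1)).2 hee.neg_one_pow),
      Finset.prod_involution (fun z _ => z⁻¹), mul_one]
    · intro z hz
      have hz0 : z ≠ 0 := fun h => by
        have := (hmem z).1 (Finset.mem_of_mem_erase hz)
        rw [h, zero_pow he0.ne'] at this
        exact zero_ne_one this
      exact mul_inv_cancel₀ hz0
    · intro z hz hz1 h
      have hz0 : z ≠ 0 := fun h0 => by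
        have := (hmem z).1 (Finset.mem_of_mem_erase hz)
        rw [h0, zero_pow he0.ne'] at this
        exact zero_ne_one this
      have h2 : z * z = 1 := by
        nth_rewrite 1 [← h]
        exact inv_mul_cancel₀ hz0
      rcases mul_self_eq_one_iff.1 h2 with h3 | h3
      · exact hz1 h3
      · exact (Finset.mem_erase.1 hz).1 h3
    · intro z hz
      obtain ⟨hz1, hz2⟩ := Finset.mem_erase.1 hz
      refine Finset.mem_erase.2 ⟨fun h => hz1 ?_, (hmem _).2 ?_⟩
      · rw [← inv_inv z, h]; norm_num
      · rw [inv_pow, (hmem z).1 hz2, inv_one]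
    · intro z _
      exact inv_inv z
  rw [← LinearMap.det_toMatrix b]
  have hmat : LinearMap.toMatrix b b (ρ g) = Matrix.diagonal μ := by
    ext i j
    rw [LinearMap.toMatrix_apply, (hb j).1]
    rcases eq_or_ne i j with rfl | hij
    · simp
    · simp [Matrix.diagonal_apply_ne _ hij, hij]
  rw [hmat, Matrix.det_diagonal, ← hprod, hs, Finset.prod_image fun i _ j _ h => hinj h]

/-- A representation of a nonabelian simple group has trivial determinant. -/
theorem det_eq_one_of_simple [IsSimpleGroup G] (hG : ¬ IsMulCommutative G) (g : G) :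
    LinearMap.det (ρ g) = 1 := by
  set f : G →* ℂˣ := ((LinearMap.det : (V →ₗ[ℂ] V) →* ℂ).comp ρ).toHomUnits
  rcases IsSimpleGroup.eq_bot_or_eq_top_of_normal f.ker inferInstance with h | h
  · refine absurd ⟨⟨fun a b => (MonoidHom.ker_eq_bot_iff f).1 h ?_⟩⟩ hG
    rw [map_mul, map_mul, mul_comm]
  · exact congrArg Units.val (MonoidHom.mem_ker.1 (h ▸ Subgroup.mem_top g) : f g = 1)

end CfsgLib.SylowPrimePower
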